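import Groth.Agent.TorCov.Basic
import Groth.Agent.NormX.FreeAmple

/-!
An invertible module killed by a finite locally free covering is killed by its degree.
-/

set_option autoImplicit false
set_option linter.style.haveILetI false
set_option linter.unusedSectionVars false
set_option backward.isDefEq.respectTransparency false
set_option backward.isDefEq.respectTransparency.types false

universe u

open CategoryTheory AlgebraicGeometry TopologicalSpace

namespace Groth.Agent.TorCov

open Groth.Agent Groth.Agent.AModX Groth.Agent.InvX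

variable {X Y : Scheme.{u}} {L : X.Modules}

theorem tensorPow_trivial (f : Y ⟶ X) {d : ℕ} (hf : Mor2.IsFinLocFreeOfDeg d f) (hL : PicF.IsInvertible L)
    (e : (Scheme.Modules.pullback f).obj L ≅ Coh.structureModule Y) :
    Nonempty (CohB1.tensorPow L d ≅ Coh.structureModule X) := by
  rcases Nat.eq_zero_or_pos d with rfl | hd
  · exact ⟨Iso.refl _⟩
  obtain ⟨N⟩ := NormX.hasNorm_of_isFinLocFreeOfDeg f d hd hf
  obtain ⟨t, ht⟩ := exists_globalFrame e
  choose U hU a ha using InvX.exists_frame hL
  choose c hc hca using fun x => exists_pull_coord f ht (ha x)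
  choose b hb using fun x => ((hc x).map (N.norm (U x))).exists_left_inv
  refine nonempty_iso_of_units U (fun x => ⟨x, hU x⟩) (fun x => powSect (a x) d) (fun x => isFrame_powSect (ha x) d)
    b (fun x => IsUnit.of_mul_eq_one _ (hb x)) fun i j g hg => ?_
  obtain ⟨g₀, hg₀⟩ := (ha i).exists_coord (inf_le_left : U i ⊓ U j ≤ U i)
    (res L (inf_le_right : U i ⊓ U j ≤ U j) (a j))
  have hgd : g = g₀ ^ d := by
    refine (isFrame_powSect (ha i) d).coord_unique (inf_le_left : U i ⊓ U j ≤ U i) ?_
    rw [← hg, res_powSect, res_powSect, hg₀, powSect_smul]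
  have hnres : ∀ {A B : X.Opens} (h : B ≤ A) (s : Γ(Y, f ⁻¹ᵁ A)),
      N.norm B (resR (f.preimage_mono h) s) = resR h (N.norm A s) := fun h s => (N.norm_res (homOfLE h) s).symm
  have h1 := congrArg (N.norm (U i ⊓ U j)) (pull_coord_eq f ht (hca i) (hca j) hg₀)
  rw [map_mul, N.norm_app, hnres (inf_le_right : U i ⊓ U j ≤ U j), hnres (inf_le_left : U i ⊓ U j ≤ U i)] at h1
  have hbi : resR (inf_le_left : U i ⊓ U j ≤ U i) (b i) * resR inf_le_left (N.norm (U i) (c i)) = 1 := by
    rw [← map_mul, hb, map_one]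
  have hbj : resR (inf_le_right : U i ⊓ U j ≤ U j) (b j) * resR inf_le_right (N.norm (U j) (c j)) = 1 := by
    rw [← map_mul, hb, map_one]
  rw [hgd]
  calc resR (inf_le_right : U i ⊓ U j ≤ U j) (b j) * g₀ ^ d
      = resR (inf_le_left : U i ⊓ U j ≤ U i) (b i) *
          (resR (inf_le_right : U i ⊓ U j ≤ U j) (b j) * (g₀ ^ d * resR inf_le_left (N.norm (U i) (c i)))) := by
        rw [← mul_one (resR (inf_le_right : U i ⊓ U j ≤ U j) (b j) * g₀ ^ d), ← hbi]; ring
    _ = resR (inf_le_left : U i ⊓ U j ≤ U i) (b i) := by rw [← h1, hbj, mul_one]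

end Groth.Agent.TorCov
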